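import Cfsg.Agent.Lib.H6.L25TC.Part0
import Cfsg.Agent.Lib.H6.L25TC.Rows

set_option autoImplicit false
set_option maxRecDepth 1000000

/-! # the certified enumeration of L25 (generated) -/

namespace Cfsg.Agent.Lib.H6.L25TC

open Cfsg.Agent.Lib.H17.CosetCert Cfsg.Agent.Lib.H6.TC

/-- every transitive action in which the relator words act trivially and the subgroup words fix the base point has at most 1950 points -/
theorem bound {G Q : Type} [Group G] [MulAction G Q] [MulAction.IsPretransitive G Q] (γ : ℕ → G)
    (hiv : ∀ x < 4, γ (iv x) = (γ x)⁻¹) (q0 : Q) (hw : WordsOK γ q0 words)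
    (hgen : Subgroup.closure {g : G | ∃ x < 4, g = γ x} = ⊤) : Finite Q ∧ Nat.card Q ≤ 1950 := by
  have h0 := inv_zero F 4 γ q0
  have h1 := part0 γ hiv q0 hw h0
  have hm := mask_mem
  have := card_le F iv 4 8192 γ hiv q0 4364 2121 h1 rows mask hm mask_zero
    (checkRows_of_forall F iv 4 8192 4364 mask rowsAll rows_chk) hgen
  rw [rows_length] at this
  exact this

end Cfsg.Agent.Lib.H6.L25TC
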