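import Cfsg.Agent.Lib.H6.L25TC.Facts0

set_option autoImplicit false
set_option maxRecDepth 1000000

/-! # facts and words of L25 (generated) -/

namespace Cfsg.Agent.Lib.H6.L25TC

open Cfsg.Agent.Lib.H17.CosetCert Cfsg.Agent.Lib.H6.TC

/-- the packed facts -/
def factTree : BT := ft0

/-- fact number `f` -/
noncomputable def F (f : ℕ) : ℕ × ℕ × ℕ := factOf factTree 1 4096 27 134217728 12 4096 f

/-- the inverse letter -/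
def iv (x : ℕ) : ℕ := (cond (Nat.beq x 0) 1 (cond (Nat.beq x 1) 0 (cond (Nat.beq x 2) 3 (cond (Nat.beq x 3) 2 x))))

/-- the words: relator rotations, subgroup generators, trivial words -/
def words : WT := .node (.node (.node (.node (.node (.node (.leaf [0, 0, 0, 3, 3, 1, 2, 2, 1, 2, 2] true) (.leaf [1, 3, 0, 2, 1, 3, 0, 2, 1, 3, 0, 2] true)) (.leaf [2, 1, 2, 3, 1, 2, 0, 0, 2, 1, 1] true)) (.node (.node (.leaf [1, 2, 2, 0, 0, 0, 3, 3, 1, 2, 2] true) (.leaf [0, 1] true)) (.leaf [1, 3, 0, 2, 1, 3, 0, 2, 1, 3, 0, 2] true))) (.node (.node (.node (.leaf [3, 1, 2, 2, 1, 2, 2, 0, 0, 0, 3] true) (.leaf [0, 0, 0, 0] true)) (.leaf [1, 2, 0, 0, 2, 1, 1, 2, 1, 2, 3] true)) (.node (.leaf [0, 2, 1, 1, 2, 1, 2, 3, 1, 2, 0] true) (.leaf [1, 3, 0, 2, 1, 3, 0, 2, 1, 3, 0, 2] true)))) (.node (.node (.node (.node (.leaf [0, 3,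 3, 1, 2, 2, 1, 2, 2, 0, 0] true) (.leaf [0, 0, 0, 0] true)) (.leaf [2, 3, 1, 2, 0, 0, 2, 1, 1, 2, 1] true)) (.node (.node (.leaf [2, 0, 0, 0, 3, 3, 1, 2, 2, 1, 2] true) (.leaf [2, 3] true)) (.leaf [0, 2, 1, 3, 0, 2, 1, 3, 0, 2, 1, 3] true))) (.node (.node (.node (.leaf [2, 2, 1, 2, 2, 0, 0, 0, 3, 3, 1] true) (.leaf [0] false)) (.leaf [0, 2, 1, 3, 0, 2, 1, 3, 0, 2, 1, 3] true)) (.node (.leaf [1, 1, 2, 1, 2, 3, 1, 2, 0, 0, 2] true) (.leaf [0, 2, 1, 3, 0, 2, 1, 3, 0, 2, 1, 3] true))))) (.node (.node (.node (.node (.node (.leaf [0, 0, 3, 3, 1, 2, 2, 1, 2, 2, 0] true) (.leaf [3, 0, 2, 1, 3, 0, 2, 1, 3, 0, 2, 1] true)) (.leaf [1, 2, 3, 1, 2, 0, 0, 2, 1, 1, 2] true)) (.node (.node (.leaf [2, 2, 0, 0, 0, 3, 3, 1, 2, 2, 1] true) (.leaf [3, 2] true)) (.leaf [3, 0, 2, 1, 3, 0, 2, 1, 3, 0, 2, 1] true))) (.node (.node (.node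 (.leaf [1, 2, 2, 1, 2, 2, 0, 0, 0, 3, 3] true) (.leaf [0, 0, 0, 0] true)) (.leaf [2, 0, 0, 2, 1, 1, 2, 1, 2, 3, 1] true)) (.node (.leaf [2, 1, 1, 2, 1, 2, 3, 1, 2, 0, 0] true) (.leaf [3, 0, 2, 1, 3, 0, 2, 1, 3, 0, 2, 1] true)))) (.node (.node (.node (.node (.leaf [3, 3, 1, 2, 2, 1, 2, 2, 0, 0, 0] true) (.leaf [0, 0, 0, 0] true)) (.leaf [3, 1, 2, 0, 0, 2, 1, 1, 2, 1, 2] true)) (.node (.leaf [0, 0, 2, 1, 1, 2, 1, 2, 3, 1, 2] true) (.leaf [2, 1, 3, 0, 2, 1, 3, 0, 2, 1, 3, 0] true))) (.node (.node (.node (.leaf [2, 1, 2, 2, 0, 0, 0, 3, 3, 1, 2] true) (.leaf [1, 0] true)) (.leaf [2, 1, 3, 0, 2, 1, 3, 0, 2, 1, 3, 0] true)) (.node (.leaf [1, 2, 1, 2, 3, 1, 2, 0, 0, 2, 1] true) (.leaf [2, 1, 3, 0, 2, 1, 3, 0, 2, 1, 3, 0] true)))))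

end Cfsg.Agent.Lib.H6.L25TC
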