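import Cfsg.Agent.Lib.H6.L25TC.Facts

set_option autoImplicit false
set_option maxRecDepth 1000000

/-! # mask of live nodes of L25 (generated) -/

namespace Cfsg.Agent.Lib.H6.L25TC

open Cfsg.Agent.Lib.H17.CosetCert Cfsg.Agent.Lib.H6.TC

/-- bit mask of the live nodes -/
def mask : ℕ := 0x1ffffffffffffffffffffffffffffffffffffffffffffffbfffffffffffffffffffffeffffffffffeffffffffffffffffffffbffff7fbffffdffefbf7fff7ff9bff7ffbffbfdffefdffffffff7fffffffffffffedbaffbf1fdfeef777bfffbb7ff7ffbbdffffddfffb7ff7ffbb7ff3f7efffffffffdffffddfffffffffffffffff5fffffff5ffffff7fffffffffffefffffffffffd7fffffffdfffffffffffffffcffffbffffffdf75fbfbffdfeffefdfff7bff7fbf7bfffffffffffffd7ffeefbfdfbeffddbf7eeffffef7dfefdefffffffffdffffffffdffff5ff7df7fffefffff5ffffdfffffebffff7efbff7ef7ffffefefbf3dfe3efde3ffbf7d86f7cfcfafb0fbf1df7e3efeff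

end Cfsg.Agent.Lib.H6.L25TC
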