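import Cfsg.Agent.Lib.H6.L25TC.Steps0

set_option autoImplicit false
set_option maxRecDepth 1000000

/-! # invariant through part 0 of L25 (generated) -/

namespace Cfsg.Agent.Lib.H6.L25TC

open Cfsg.Agent.Lib.H17.CosetCert Cfsg.Agent.Lib.H6.TC

theorem part0 {G Q : Type} [Group G] [MulAction G Q] (γ : ℕ → G)
    (hiv : ∀ x < 4, γ (iv x) = (γ x)⁻¹) (q0 : Q) (hw : WordsOK γ q0 words)
    (h0 : Inv F 4 γ q0 0 1) : Inv F 4 γ q0 4364 2121 := by
  have h1 := checkSteps_sound F iv 4 8192 γ hiv q0 words hw steps0 0 1 615 h0 chk0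
  rw [len0] at h1
  have h2 := checkSteps_sound F iv 4 8192 γ hiv q0 words hw steps1 1000 615 1146 h1 chk1
  rw [len1] at h2
  have h3 := checkSteps_sound F iv 4 8192 γ hiv q0 words hw steps2 2000 1146 1652 h2 chk2
  rw [len2] at h3
  have h4 := checkSteps_sound F iv 4 8192 γ hiv q0 words hw steps3 3000 1652 2017 h3 chk3
  rw [len3] at h4
  have h5 := checkSteps_sound F iv 4 8192 γ hiv q0 words hw steps4 4000 2017 2121 h4 chk4
  rw [len4] at h5
  exact h5

end Cfsg.Agent.Lib.H6.L25TC
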